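import Mathlib.GroupTheory.Transfer
import Mathlib.GroupTheory.Rank
import Mathlib.GroupTheory.Abelianization.Defs
import Mathlib.GroupTheory.GroupAction.ConjAct
import Mathlib.Algebra.Group.ConjFinite

/-!
# An element of prime order with centralizer of prime order

`x` has prime order `p` and `C_G(x) = ⟨x⟩`: `⟨x⟩` is a Sylow `p`-subgroup, `t * |N(⟨x⟩)| = p(p-1)`
for the number `t` of classes of elements of order `p`, and the normal subgroups of `G` are
either prime to `p` or contain the commutator subgroup.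
-/

set_option linter.unusedSectionVars false
set_option linter.style.haveILetI false

namespace Cfsg.Agent.CentPrime

open Subgroup

variable {G : Type*} [Group G] [Finite G] {p : ℕ} [Fact p.Prime] {x : G}

/-- The normalizer of `⟨x⟩`. -/
abbrev nor (x : G) : Subgroup G := normalizer (zpowers x : Set G)

theorem mem_cen_iff {g y : G} : g ∈ centralizer ({y} : Set G) ↔ g * y = y * g :=
  mem_centralizer_singleton_iff

theorem card_zpowers' (hx : orderOf x = p) : Nat.card (zpowers x) = p := by
  rw [Nat.card_zpowers, hx]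

theorem ne_one (hx : orderOf x = p) : x ≠ 1 := by
  rintro rfl
  rw [orderOf_one] at hx
  exact (Fact.out : p.Prime).one_lt.ne' hx.symm

theorem eq_bot_or_self {H : Subgroup G} (hx : orderOf x = p) (hH : H ≤ zpowers x) :
    H = ⊥ ∨ H = zpowers x := by
  have h := card_dvd_of_le hH
  rw [card_zpowers' hx] at h
  rcases (Nat.dvd_prime Fact.out).1 h with h1 | h1
  · exact Or.inl (eq_bot_of_card_eq _ h1)
  · exact Or.inr (eq_of_le_of_card_ge hH (by rw [card_zpowers' hx, h1]))

theorem zpowers_eq_of_mem (hx : orderOf x = p) {y : G} (hy : y ∈ zpowers x) (h1 : y ≠ 1) :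
    zpowers y = zpowers x :=
  ((eq_bot_or_self hx (zpowers_le.2 hy)).resolve_left fun h => h1 (zpowers_eq_bot.1 h))

theorem inf_eq_bot (hx : orderOf x = p) {S : Subgroup G} (hS : x ∉ S) : S ⊓ zpowers x = ⊥ :=
  (eq_bot_or_self hx inf_le_right).resolve_right fun h =>
    hS ((h.ge (mem_zpowers x)).1)

theorem eq_one_of_mem (hx : orderOf x = p) {S : Subgroup G} (hS : x ∉ S) {y : G} (h1 : y ∈ S)
    (h2 : y ∈ zpowers x) : y = 1 := by
  have : y ∈ S ⊓ zpowers x := ⟨h1, h2⟩
  rwa [inf_eq_bot hx hS, mem_bot] at this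

theorem exists_sylow (hx : orderOf x = p) (hC : centralizer ({x} : Set G) = zpowers x) :
    ∃ P : Sylow p G, (P : Subgroup G) = zpowers x := by
  have hp : IsPGroup p (zpowers x) := IsPGroup.of_card (n := 1) (by rw [card_zpowers' hx, pow_one])
  obtain ⟨P, hP⟩ := hp.exists_le_sylow
  refine ⟨P, le_antisymm ?_ hP⟩
  haveI : Nontrivial (P : Subgroup G) :=
    ⟨⟨⟨x, hP (mem_zpowers x)⟩, 1, fun h => ne_one hx (congrArg Subtype.val h)⟩⟩
  haveI := P.2.center_nontrivial
  obtain ⟨z, hz⟩ := exists_ne (1 : center (P : Subgroup G))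
  have hc : ∀ g ∈ (P : Subgroup G), g * ((z : (P : Subgroup G)) : G)
      = ((z : (P : Subgroup G)) : G) * g := fun g hg =>
    congrArg Subtype.val (mem_center_iff.1 z.2 ⟨g, hg⟩)
  have hzx : ((z : (P : Subgroup G)) : G) ∈ zpowers x := by
    rw [← hC, mem_cen_iff]
    exact (hc x (hP (mem_zpowers x))).symm
  have hz1 : ((z : (P : Subgroup G)) : G) ≠ 1 := fun h => hz (Subtype.ext (Subtype.ext h))
  intro g hg
  rw [← hC, mem_cen_iff]
  have hxz : x ∈ zpowers ((z : (P : Subgroup G)) : G) :=
    (zpowers_eq_of_mem hx hzx hz1).ge (mem_zpowers x)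
  obtain ⟨k, hk⟩ := mem_zpowers_iff.1 hxz
  rw [← hk]
  exact ((show Commute g _ from hc g hg).zpow_right k).eq

theorem exists_conj_mem (hx : orderOf x = p) (hC : centralizer ({x} : Set G) = zpowers x) {y : G}
    (hy : ∃ k, orderOf y = p ^ k) : ∃ g : G, g * y * g⁻¹ ∈ zpowers x := by
  obtain ⟨k, hk⟩ := hy
  have hp : IsPGroup p (zpowers y) := IsPGroup.of_card (n := k) (by rw [Nat.card_zpowers, hk])
  obtain ⟨Q, hQ⟩ := hp.exists_le_sylow
  obtain ⟨P, hP⟩ := exists_sylow hx hC
  obtain ⟨g, hg⟩ := MulAction.exists_smul_eq G Q P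
  refine ⟨g, ?_⟩
  rw [← hP, ← hg, Sylow.coe_subgroup_smul, Subgroup.mem_pointwise_smul_iff_inv_smul_mem]
  simpa [MulAut.smul_def, mul_assoc] using hQ (mem_zpowers y)

theorem centralizer_eq (hx : orderOf x = p) (hC : centralizer ({x} : Set G) = zpowers x) {y : G}
    (hy : orderOf y = p) : centralizer ({y} : Set G) = zpowers y := by
  refine le_antisymm ?_ (zpowers_le.2 (mem_cen_iff.2 rfl))
  obtain ⟨g, hg⟩ := exists_conj_mem hx hC ⟨1, by rw [hy, pow_one]⟩
  have h1 : g * y * g⁻¹ ≠ 1 := fun h => ne_one hy (by simpa using h)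
  intro z hz
  rw [mem_cen_iff] at hz
  have hxy : x ∈ zpowers (g * y * g⁻¹) := (zpowers_eq_of_mem hx hg h1).ge (mem_zpowers x)
  have hz' : g * z * g⁻¹ ∈ centralizer ({x} : Set G) := by
    rw [mem_cen_iff]
    obtain ⟨k, hk⟩ := mem_zpowers_iff.1 hxy
    rw [← hk]
    refine (Commute.zpow_right (show Commute (g * z * g⁻¹) (g * y * g⁻¹) from ?_) k).eq
    show g * z * g⁻¹ * (g * y * g⁻¹) = g * y * g⁻¹ * (g * z * g⁻¹)
    calc g * z * g⁻¹ * (g * y * g⁻¹) = g * (z * y) * g⁻¹ := by group
      _ = g * (y * z) * g⁻¹ := by rw [hz]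
      _ = _ := by group
  rw [hC, ← zpowers_eq_of_mem hx hg h1] at hz'
  obtain ⟨k, hk⟩ := mem_zpowers_iff.1 hz'
  refine mem_zpowers_iff.2 ⟨k, ?_⟩
  rw [conj_zpow] at hk
  exact mul_left_cancel (mul_right_cancel hk)

theorem zpowers_le_nor : zpowers x ≤ nor x := le_normalizer

theorem mem_cen_of_nor {g : G} (h : g * x = x * g) : g ∈ nor x := by
  have : centralizer (zpowers x : Set G) ≤ nor x := centralizer_le_normalizer _
  refine this ?_
  rw [mem_centralizer_iff]
  intro y hy
  obtain ⟨k, rfl⟩ := mem_zpowers_iff.1 hy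
  exact ((show Commute g x from h).zpow_right k).eq.symm

theorem conj_mem_of_mem_nor {g y : G} (hg : g ∈ nor x) (hy : y ∈ zpowers x) :
    g * y * g⁻¹ ∈ zpowers x :=
  (mem_normalizer_iff.1 hg y).1 hy

theorem mem_nor_of_conj {g : G} (hx : orderOf x = p) (h : g * x * g⁻¹ ∈ zpowers x) : g ∈ nor x := by
  have h1 : g * x * g⁻¹ ≠ 1 := fun h => ne_one hx (by simpa using h)
  have he : (zpowers x).map (MulAut.conj g).toMonoidHom = zpowers x := by
    rw [MonoidHom.map_zpowers]
    exact zpowers_eq_of_mem hx h h1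
  show g ∈ normalizer (zpowers x : Set G)
  rw [mem_normalizer_iff]
  intro y
  conv_rhs => rw [← he]
  rw [mem_map]
  constructor
  · exact fun hy => ⟨y, hy, by simp⟩
  · rintro ⟨z, hz, hzy⟩
    obtain rfl : z = y := by simpa using hzy
    exact hz

/-- Commutators of elements of the normalizer centralize `x`. -/
theorem commutatorElement_mem (hC : centralizer ({x} : Set G) = zpowers x) {n m : G}
    (hn : n ∈ nor x) (hm : m ∈ nor x) : (m * n)⁻¹ * (n * m) ∈ zpowers x := by
  obtain ⟨a, ha⟩ := mem_zpowers_iff.1 (conj_mem_of_mem_nor hn (mem_zpowers x))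
  obtain ⟨b, hb⟩ := mem_zpowers_iff.1 (conj_mem_of_mem_nor hm (mem_zpowers x))
  have key : (n * m) * x * (n * m)⁻¹ = (m * n) * x * (m * n)⁻¹ := by
    have e1 : (n * m) * x * (n * m)⁻¹ = x ^ (a * b) := by
      rw [zpow_mul, ha, conj_zpow, hb]; group
    have e2 : (m * n) * x * (m * n)⁻¹ = x ^ (b * a) := by
      rw [zpow_mul, hb, conj_zpow, ha]; group
    rw [e1, e2, mul_comm]
  rw [← hC, mem_cen_iff]
  calc (m * n)⁻¹ * (n * m) * x
      = (m * n)⁻¹ * ((n * m) * x * (n * m)⁻¹) * (n * m) := by group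
    _ = (m * n)⁻¹ * ((m * n) * x * (m * n)⁻¹) * (n * m) := by rw [key]
    _ = x * ((m * n)⁻¹ * (n * m)) := by group

/-! ### Counting -/

theorem card_eq_p (P : Sylow p G) (hx : orderOf x = p)
    (hC : centralizer ({x} : Set G) = zpowers x) : Nat.card (P : Subgroup G) = p := by
  obtain ⟨P₀, hP₀⟩ := exists_sylow hx hC
  rw [Nat.card_congr (Sylow.equiv P P₀).toEquiv]
  show Nat.card (P₀ : Subgroup G) = p
  rw [hP₀, card_zpowers' hx]

theorem pow_factorization (hx : orderOf x = p) (hC : centralizer ({x} : Set G) = zpowers x) :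
    p ^ (Nat.card G).factorization p = p := by
  obtain ⟨P, hP⟩ := exists_sylow hx hC
  rw [← P.card_eq_multiplicity, hP, card_zpowers' hx]

theorem card_subgroups (hx : orderOf x = p) (hC : centralizer ({x} : Set G) = zpowers x) :
    Nat.card {H : Subgroup G // Nat.card H = p} = (nor x).index := by
  let e : {H : Subgroup G // Nat.card H = p} ≃ Sylow p G :=
    { toFun := fun H => Sylow.ofCard H.1 (by rw [pow_factorization hx hC, H.2])
      invFun := fun P => ⟨(P : Subgroup G), card_eq_p P hx hC⟩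
      left_inv := fun H => Subtype.ext rfl
      right_inv := fun P => Sylow.ext rfl }
  obtain ⟨P, hP⟩ := exists_sylow hx hC
  rw [Nat.card_congr e, P.card_eq_index_normalizer]
  exact congrArg (fun S : Subgroup G => (normalizer (S : Set G)).index) hP

theorem card_orderOf_mul (hx : orderOf x = p) (hC : centralizer ({x} : Set G) = zpowers x) :
    Nat.card {g : G // orderOf g = p} = (nor x).index * (p - 1) := by
  let e : {g : G // orderOf g = p} ≃
      Σ H : {H : Subgroup G // Nat.card H = p}, {g : (H.1 : Subgroup G) // g ≠ 1} :=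
    { toFun := fun g => ⟨⟨zpowers g.1, card_zpowers' g.2⟩, ⟨g.1, mem_zpowers _⟩,
        fun h => ne_one g.2 (congrArg Subtype.val h)⟩
      invFun := fun q => ⟨q.2.1.1, by
        have h := orderOf_dvd_natCard (q.2.1 : (q.1.1 : Subgroup G))
        rw [q.1.2, Nat.dvd_prime Fact.out, orderOf_eq_one_iff] at h
        rw [← Subgroup.orderOf_coe] at h
        exact h.resolve_left q.2.2⟩
      left_inv := fun g => Subtype.ext rfl
      right_inv := fun q => by
        obtain ⟨⟨H, hH⟩, ⟨g, hgH⟩, hg⟩ := q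
        have he : zpowers g = H := by
          refine eq_of_le_of_card_ge (zpowers_le.2 hgH) ?_
          have h := orderOf_dvd_natCard (⟨g, hgH⟩ : H)
          rw [hH, Nat.dvd_prime Fact.out, orderOf_eq_one_iff] at h
          rw [← Subgroup.orderOf_coe] at h
          rw [Nat.card_zpowers, h.resolve_left hg, hH]
        subst he
        rfl }
  haveI := Fintype.ofFinite {H : Subgroup G // Nat.card H = p}
  rw [Nat.card_congr e, Nat.card_sigma, Finset.sum_congr rfl (g := fun _ => p - 1), Finset.sum_const,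
    Finset.card_univ, ← Nat.card_eq_fintype_card, card_subgroups hx hC, smul_eq_mul]
  rintro ⟨H, hH⟩ -
  classical
  haveI := Fintype.ofFinite H
  rw [Nat.card_eq_fintype_card, Fintype.card_subtype_compl, Fintype.card_subtype_eq,
    ← Nat.card_eq_fintype_card, hH]

theorem card_carrier_mul (hx : orderOf x = p) (hC : centralizer ({x} : Set G) = zpowers x) {y : G}
    (hy : orderOf y = p) : Nat.card (ConjClasses.mk y).carrier * p = Nat.card G := by
  have h1 := MulAction.index_stabilizer (ConjAct G) y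
  rw [ConjAct.orbit_eq_carrier_conjClasses, ← Nat.card_coe_set_eq] at h1
  have h2 : Nat.card (MulAction.stabilizer (ConjAct G) y) = p := by
    rw [← Subgroup.nat_card_centralizer_nat_card_stabilizer, centralizer_eq hx hC hy,
      card_zpowers' hy]
  have h3 := (MulAction.stabilizer (ConjAct G) y).card_mul_index
  rw [h1, h2] at h3
  rw [mul_comm, h3]
  exact Nat.card_congr ConjAct.ofConjAct.toEquiv

theorem t_mul_card_nor (hx : orderOf x = p) (hC : centralizer ({x} : Set G) = zpowers x) {t : ℕ}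
    (ht : Nat.card {C : ConjClasses G // ∃ g ∈ C.carrier, orderOf g = p} = t) :
    t * Nat.card (nor x) = p * (p - 1) := by
  classical
  let e : {g : G // orderOf g = p} ≃
      Σ C : {C : ConjClasses G // ∃ g ∈ C.carrier, orderOf g = p}, C.1.carrier :=
    { toFun := fun g => ⟨⟨ConjClasses.mk g.1, g.1, ConjClasses.mem_carrier_mk, g.2⟩,
        ⟨g.1, ConjClasses.mem_carrier_mk⟩⟩
      invFun := fun q => ⟨q.2.1, by
        obtain ⟨g, hg, hgo⟩ := q.1.2
        have h2 := q.2.2
        rw [ConjClasses.mem_carrier_iff_mk_eq] at hg h2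
        obtain ⟨c, hc⟩ := isConj_iff.1 (ConjClasses.mk_eq_mk_iff_isConj.1 (hg.trans h2.symm))
        rw [← hc, show c * g * c⁻¹ = MulAut.conj c g from rfl, MulEquiv.orderOf_eq, hgo]⟩
      left_inv := fun g => Subtype.ext rfl
      right_inv := fun q => by
        obtain ⟨⟨C, hC'⟩, ⟨g, hg⟩⟩ := q
        have : ConjClasses.mk g = C := ConjClasses.mem_carrier_iff_mk_eq.1 hg
        subst this
        rfl }
  have hsum : (Nat.card {g : G // orderOf g = p}) * p = t * Nat.card G := by
    haveI := Fintype.ofFinite {C : ConjClasses G // ∃ g ∈ C.carrier, orderOf g = p}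
    rw [Nat.card_congr e, Nat.card_sigma, Finset.sum_mul,
      Finset.sum_congr rfl (g := fun _ => Nat.card G), Finset.sum_const, Finset.card_univ,
      ← Nat.card_eq_fintype_card, ht, smul_eq_mul]
    rintro ⟨C, g, hg, hgo⟩ -
    have : ConjClasses.mk g = C := ConjClasses.mem_carrier_iff_mk_eq.1 hg
    subst this
    exact card_carrier_mul hx hC hgo
  rw [card_orderOf_mul hx hC, ← (nor x).card_mul_index] at hsum
  exact Nat.eq_of_mul_eq_mul_left (Nat.pos_of_ne_zero (nor x).index_ne_zero_of_finite)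
    (by linarith [hsum, show (nor x).index * (t * Nat.card (nor x))
      = t * (Nat.card (nor x) * (nor x).index) by ring,
      show (nor x).index * (p * (p - 1)) = (nor x).index * (p - 1) * p by ring])

theorem p_dvd_card_nor (hx : orderOf x = p) : p ∣ Nat.card (nor x) := by
  have := card_dvd_of_le (zpowers_le_nor (x := x))
  rwa [card_zpowers' hx] at this

theorem t_eq_iff (hx : orderOf x = p) (hC : centralizer ({x} : Set G) = zpowers x) {t : ℕ}
    (ht : Nat.card {C : ConjClasses G // ∃ g ∈ C.carrier, orderOf g = p} = t) :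
    t = p - 1 ↔ Nat.card (nor x) = p := by
  have h := t_mul_card_nor hx hC ht
  have hp1 : 0 < p - 1 := Nat.sub_pos_of_lt (Fact.out : p.Prime).one_lt
  constructor
  · rintro rfl
    exact Nat.eq_of_mul_eq_mul_left hp1 (by rw [h, mul_comm])
  · intro hN
    rw [hN, mul_comm] at h
    exact Nat.eq_of_mul_eq_mul_left (Fact.out : p.Prime).pos h

theorem t_le (hx : orderOf x = p) (hC : centralizer ({x} : Set G) = zpowers x) {t : ℕ}
    (ht : Nat.card {C : ConjClasses G // ∃ g ∈ C.carrier, orderOf g = p} = t) : t ≤ p - 1 := by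
  have h := t_mul_card_nor hx hC ht
  have h2 : p ≤ Nat.card (nor x) := Nat.le_of_dvd Nat.card_pos (p_dvd_card_nor hx)
  by_contra hlt
  have h3 : (p - 1 + 1) * p ≤ t * Nat.card (nor x) := Nat.mul_le_mul (by omega) h2
  rw [h, add_mul, mul_comm (p - 1)] at h3
  have := (Fact.out : p.Prime).pos
  omega

theorem card_nor_dvd (hx : orderOf x = p) (hC : centralizer ({x} : Set G) = zpowers x) {t : ℕ}
    (ht : Nat.card {C : ConjClasses G // ∃ g ∈ C.carrier, orderOf g = p} = t) :
    ∃ e, 0 < e ∧ Nat.card (nor x) = p * e ∧ t * e = p - 1 := by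
  obtain ⟨e, he⟩ := p_dvd_card_nor (x := x) hx
  refine ⟨e, Nat.pos_of_ne_zero ?_, he, ?_⟩
  · rintro rfl
    rw [mul_zero] at he
    exact Nat.card_pos.ne' he
  · have h := t_mul_card_nor hx hC ht
    rw [he, ← mul_assoc, mul_comm t p, mul_assoc] at h
    exact Nat.eq_of_mul_eq_mul_left (Fact.out : p.Prime).pos h

/-! ### Normal subgroups -/

theorem mem_of_dvd (hx : orderOf x = p) (hC : centralizer ({x} : Set G) = zpowers x)
    {S : Subgroup G} [hS : S.Normal] (h : p ∣ Nat.card S) : x ∈ S := by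
  obtain ⟨y, hy⟩ := exists_prime_orderOf_dvd_card' p h
  rw [← Subgroup.orderOf_coe] at hy
  obtain ⟨g, hg⟩ := exists_conj_mem hx hC ⟨1, by rw [hy, pow_one]⟩
  have h1 : g * (y : G) * g⁻¹ ≠ 1 := fun h => ne_one hy (by simpa using h)
  exact (zpowers_le.2 (hS.conj_mem _ y.2 g))
    ((zpowers_eq_of_mem hx hg h1).ge (mem_zpowers x))

theorem not_mem_of_not_dvd (hx : orderOf x = p) {S : Subgroup G} (h : ¬ p ∣ Nat.card S) :
    x ∉ S := fun hxS => h (by
  have := card_dvd_of_le (zpowers_le.2 hxS)
  rwa [card_zpowers' hx] at this)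

theorem frattini (hx : orderOf x = p) (hC : centralizer ({x} : Set G) = zpowers x)
    {S : Subgroup G} [S.Normal] (h : p ∣ Nat.card S) : nor x ⊔ S = ⊤ := by
  obtain ⟨P, hP⟩ := exists_sylow hx hC
  have hle : (P : Subgroup G) ≤ S := hP ▸ zpowers_le.2 (mem_of_dvd hx hC h)
  have := Sylow.normalizer_sup_eq_top' P hle
  rwa [show normalizer (P : Set G) = nor x from
    congrArg (fun T : Subgroup G => normalizer (T : Set G)) hP] at this

theorem commutator_le_of_dvd (hx : orderOf x = p) (hC : centralizer ({x} : Set G) = zpowers x)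
    {S : Subgroup G} [S.Normal] (h : p ∣ Nat.card S) : commutator G ≤ S := by
  have hxS := zpowers_le.2 (mem_of_dvd hx hC h)
  have hmk : ∀ a : G, ∃ n ∈ nor x, (a : G ⧸ S) = (n : G ⧸ S) := fun a => by
    obtain ⟨n, hn, s, hs, rfl⟩ := mem_sup_of_normal_right.1
      ((frattini hx hC h).ge (mem_top a))
    exact ⟨n, hn, QuotientGroup.eq.2 (by simpa using inv_mem hs)⟩
  rw [_root_.commutator_def, commutator_le]
  intro a _ b _
  obtain ⟨n, hn, ha⟩ := hmk a
  obtain ⟨m, hm, hb⟩ := hmk b
  rw [← QuotientGroup.eq_one_iff, commutatorElement_def]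
  simp only [QuotientGroup.mk_mul, QuotientGroup.mk_inv, ha, hb]
  have h2 : ((m * n : G) : G ⧸ S) = ((n * m : G) : G ⧸ S) :=
    QuotientGroup.eq.2 (hxS (commutatorElement_mem hC hn hm))
  simp only [QuotientGroup.mk_mul] at h2
  rw [← h2]
  group

theorem card_mod_p (hx : orderOf x = p) (hC : centralizer ({x} : Set G) = zpowers x)
    {S : Subgroup G} [S.Normal] (h : ¬ p ∣ Nat.card S) : Nat.card S % p = 1 := by
  letI : MulAction (zpowers x) S :=
    MulAction.compHom S ((MulAut.conjNormal (H := S)).comp (zpowers x).subtype)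
  have hp : IsPGroup p (zpowers x) := IsPGroup.of_card (n := 1) (by rw [card_zpowers' hx, pow_one])
  have hmod := hp.card_modEq_card_fixedPoints S
  haveI : Subsingleton (MulAction.fixedPoints (zpowers x) S) := by
    constructor
    have key : ∀ s : MulAction.fixedPoints (zpowers x) S, (s : S) = 1 := by
      rintro ⟨s, hs⟩
      have hs' : x * (s : G) * x⁻¹ = s := congrArg Subtype.val (hs ⟨x, mem_zpowers x⟩)
      refine Subtype.ext (eq_one_of_mem hx (not_mem_of_not_dvd hx h) s.2 ?_)
      show (s : G) ∈ zpowers x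
      rw [← hC, mem_cen_iff]
      calc (s : G) * x = (x * (s : G) * x⁻¹) * x := by rw [hs']
        _ = x * (s : G) := by group
    exact fun a b => Subtype.ext ((key a).trans (key b).symm)
  haveI : Nonempty (MulAction.fixedPoints (zpowers x) S) :=
    ⟨⟨1, fun g => map_one (MulAut.conjNormal (H := S) (g : G))⟩⟩
  have h1 : Nat.card (MulAction.fixedPoints (zpowers x) S) = 1 :=
    Nat.card_eq_one_iff_unique.2 ⟨inferInstance, inferInstance⟩
  rw [h1] at hmod
  rw [hmod, Nat.mod_eq_of_lt (Fact.out : p.Prime).one_lt]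

theorem exists_commutator_eq (hx : orderOf x = p) (hC : centralizer ({x} : Set G) = zpowers x)
    {S : Subgroup G} [hS : S.Normal] (hxS : x ∉ S) {u : G} (hu : u ∈ S) :
    ∃ s ∈ S, s * x * s⁻¹ * x⁻¹ = u := by
  let f : S → S := fun s => ⟨(s : G) * x * (s : G)⁻¹ * x⁻¹, by
    rw [show (s : G) * x * (s : G)⁻¹ * x⁻¹ = (s : G) * (x * (s : G)⁻¹ * x⁻¹) by group]
    exact S.mul_mem s.2 (hS.conj_mem _ (inv_mem s.2) x)⟩
  have hf : Function.Injective f := by
    intro a b hab
    have hab' : (a : G) * x * (a : G)⁻¹ = (b : G) * x * (b : G)⁻¹ :=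
      mul_right_cancel (congrArg Subtype.val hab)
    refine Subtype.ext (inv_mul_eq_one.1 (eq_one_of_mem hx hxS (S.mul_mem (inv_mem b.2) a.2) ?_)).symm
    rw [← hC, mem_cen_iff]
    calc (b : G)⁻¹ * a * x = (b : G)⁻¹ * ((a : G) * x * (a : G)⁻¹) * a := by group
      _ = (b : G)⁻¹ * ((b : G) * x * (b : G)⁻¹) * a := by rw [hab']
      _ = x * ((b : G)⁻¹ * a) := by group
  obtain ⟨s, hs⟩ := (Finite.injective_iff_surjective.1 hf) ⟨u, hu⟩
  exact ⟨s, s.2, congrArg Subtype.val hs⟩

theorem le_commutator_of_not_mem (hx : orderOf x = p)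
    (hC : centralizer ({x} : Set G) = zpowers x) {S : Subgroup G} [S.Normal] (hxS : x ∉ S) :
    S ≤ commutator G := fun u hu => by
  obtain ⟨s, -, rfl⟩ := exists_commutator_eq hx hC hxS hu
  rw [_root_.commutator_def]
  exact commutator_mem_commutator (mem_top s) (mem_top x)

theorem orderOf_mk (hx : orderOf x = p) {S : Subgroup G} [S.Normal] (hxS : x ∉ S) :
    orderOf (x : G ⧸ S) = p :=
  orderOf_eq_prime (by rw [← QuotientGroup.mk_pow, ← hx, pow_orderOf_eq_one, QuotientGroup.mk_one])
    (by rwa [Ne, QuotientGroup.eq_one_iff])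

theorem centralizer_mk (hx : orderOf x = p) (hC : centralizer ({x} : Set G) = zpowers x)
    {S : Subgroup G} [S.Normal] (hxS : x ∉ S) :
    centralizer ({(x : G ⧸ S)} : Set (G ⧸ S)) = zpowers (x : G ⧸ S) := by
  refine le_antisymm (fun q hq => ?_) (zpowers_le.2 (mem_cen_iff.2 rfl))
  obtain ⟨g, rfl⟩ := QuotientGroup.mk_surjective q
  rw [mem_cen_iff] at hq
  have hu : g * x * g⁻¹ * x⁻¹ ∈ S := by
    rw [← QuotientGroup.eq_one_iff]
    simp only [QuotientGroup.mk_mul, QuotientGroup.mk_inv]
    rw [hq]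
    group
  obtain ⟨s, hs, hsu⟩ := exists_commutator_eq hx hC hxS hu
  have heq : s * x * s⁻¹ = g * x * g⁻¹ := mul_right_cancel hsu
  have hg : s⁻¹ * g ∈ zpowers x := by
    rw [← hC, mem_cen_iff]
    calc s⁻¹ * g * x = s⁻¹ * (g * x * g⁻¹) * g := by group
      _ = s⁻¹ * (s * x * s⁻¹) * g := by rw [heq]
      _ = x * (s⁻¹ * g) := by group
  obtain ⟨k, hk⟩ := mem_zpowers_iff.1 hg
  refine mem_zpowers_iff.2 ⟨k, ?_⟩
  rw [← QuotientGroup.mk_zpow, hk]
  simp only [QuotientGroup.mk_mul, QuotientGroup.mk_inv]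
  rw [(QuotientGroup.eq_one_iff s).2 hs]
  simp

theorem nor_inf_eq_bot (hx : orderOf x = p) (hC : centralizer ({x} : Set G) = zpowers x)
    {S : Subgroup G} [hS : S.Normal] (hxS : x ∉ S) : nor x ⊓ S = ⊥ := by
  rw [eq_bot_iff]
  rintro s ⟨hn, hs⟩
  rw [mem_bot]
  have h1 : s * x * s⁻¹ * x⁻¹ = 1 := by
    refine eq_one_of_mem hx hxS ?_ ?_
    · rw [show s * x * s⁻¹ * x⁻¹ = s * (x * s⁻¹ * x⁻¹) by group]
      exact S.mul_mem hs (hS.conj_mem _ (inv_mem hs) x)
    · exact (zpowers x).mul_mem (conj_mem_of_mem_nor hn (mem_zpowers x)) (inv_mem (mem_zpowers x))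
  refine eq_one_of_mem hx hxS hs ?_
  rw [← hC, mem_cen_iff]
  exact eq_mul_of_mul_inv_eq (mul_inv_eq_one.1 h1)

theorem card_dvd_index_nor (hx : orderOf x = p) (hC : centralizer ({x} : Set G) = zpowers x)
    {S : Subgroup G} [S.Normal] (hxS : x ∉ S) : Nat.card S ∣ (nor x).index := by
  have hinj : Function.Injective ((QuotientGroup.mk' S).comp (nor x).subtype) := by
    rw [← MonoidHom.ker_eq_bot_iff, eq_bot_iff]
    intro n hn
    have : (n : G) ∈ nor x ⊓ S := ⟨n.2, (QuotientGroup.eq_one_iff _).1 hn⟩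
    rw [nor_inf_eq_bot hx hC hxS, mem_bot] at this
    exact mem_bot.2 (Subtype.ext this)
  have h1 := Subgroup.card_dvd_of_injective _ hinj
  have h2 : Nat.card S * Nat.card (nor x) ∣ Nat.card (nor x) * (nor x).index := by
    rw [Subgroup.card_mul_index, ← S.card_mul_index]
    exact mul_dvd_mul_left _ h1
  rw [mul_comm] at h2
  exact Nat.dvd_of_mul_dvd_mul_left Nat.card_pos h2

/-- If the derived group is prime to `p`, it has index `p` and `⟨x⟩` is self-normalizing. -/
theorem of_not_dvd_commutator (hx : orderOf x = p) (hC : centralizer ({x} : Set G) = zpowers x)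
    (h : ¬ p ∣ Nat.card (commutator G)) :
    (commutator G).index = p ∧ Nat.card (nor x) = p := by
  have hxK := not_mem_of_not_dvd hx h
  constructor
  · have htop : centralizer ({(x : G ⧸ commutator G)} : Set (G ⧸ commutator G)) = ⊤ :=
      eq_top_iff.2 fun q _ => by
        obtain ⟨g, rfl⟩ := QuotientGroup.mk_surjective q
        rw [mem_cen_iff, ← commutatorElement_eq_one_iff_mul_comm,
          ← QuotientGroup.mk'_apply, ← QuotientGroup.mk'_apply, ← map_commutatorElement,
          QuotientGroup.mk'_apply, QuotientGroup.eq_one_iff]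
        rw [_root_.commutator_def]
        exact commutator_mem_commutator (mem_top g) (mem_top x)
    rw [centralizer_mk hx hC hxK] at htop
    rw [Subgroup.index_eq_card, ← card_top (G := G ⧸ commutator G), ← htop, Nat.card_zpowers,
      orderOf_mk hx hxK]
  · have hle : nor x ≤ zpowers x := fun n hn => by
      rw [← hC, mem_cen_iff]
      have h1 : n * x * n⁻¹ * x⁻¹ = 1 :=
        eq_one_of_mem hx hxK (by rw [_root_.commutator_def]; exact commutator_mem_commutator (mem_top n) (mem_top x))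
          ((zpowers x).mul_mem (conj_mem_of_mem_nor hn (mem_zpowers x)) (inv_mem (mem_zpowers x)))
      exact eq_mul_of_mul_inv_eq (mul_inv_eq_one.1 h1)
    rw [le_antisymm hle zpowers_le_nor, card_zpowers' hx]

theorem not_dvd_commutator_of_nor (hx : orderOf x = p)
    (hC : centralizer ({x} : Set G) = zpowers x) (h : Nat.card (nor x) = p) :
    ¬ p ∣ Nat.card (commutator G) := by
  obtain ⟨P, hP⟩ := exists_sylow hx hC
  have hN : nor x = zpowers x :=
    (eq_of_le_of_card_ge zpowers_le_nor (by rw [h, card_zpowers' hx])).symm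
  have hPC : normalizer (P : Set G) ≤ centralizer (P : Set G) := by
    rw [show normalizer (P : Set G) = nor x from
      congrArg (fun T : Subgroup G => normalizer (T : Set G)) hP, hN,
      show (P : Set G) = (zpowers x : Set G) from congrArg SetLike.coe hP]
    exact le_centralizer (zpowers x)
  have hle : commutator G ≤ (MonoidHom.transferSylow P hPC).ker := by
    rw [_root_.commutator_def, commutator_le]
    intro a _ b _
    rw [MonoidHom.mem_ker, map_commutatorElement, commutatorElement_eq_one_iff_mul_comm]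
    haveI : IsMulCommutative (P : Subgroup G) := ⟨⟨fun a b => by
      have ha : (a : G) ∈ zpowers x := hP ▸ a.2
      have hb : (b : G) ∈ zpowers x := hP ▸ b.2
      obtain ⟨i, hi⟩ := mem_zpowers_iff.1 ha
      obtain ⟨j, hj⟩ := mem_zpowers_iff.1 hb
      exact Subtype.ext (by simp [← hi, ← hj, ← zpow_add, add_comm])⟩⟩
    exact mul_comm' _ _
  exact fun hd => MonoidHom.not_dvd_card_ker_transferSylow P hPC (hd.trans (card_dvd_of_le hle))

theorem dvd_commutator_iff (hx : orderOf x = p) (hC : centralizer ({x} : Set G) = zpowers x)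
    {t : ℕ} (ht : Nat.card {C : ConjClasses G // ∃ g ∈ C.carrier, orderOf g = p} = t) :
    p ∣ Nat.card (commutator G) ↔ t ≠ p - 1 := by
  rw [Ne, t_eq_iff hx hC ht]
  exact ⟨fun h h2 => not_dvd_commutator_of_nor hx hC h2 h, fun h => by
    by_contra h2
    exact h (of_not_dvd_commutator hx hC h2).2⟩

theorem index_dvd_of_dvd (hx : orderOf x = p) (hC : centralizer ({x} : Set G) = zpowers x)
    {S : Subgroup G} [S.Normal] (h : p ∣ Nat.card S) : S.index * p ∣ Nat.card (nor x) := by
  have h1 : S.index = (S.subgroupOf (nor x)).index := by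
    show S.index = S.relIndex (nor x)
    rw [← Subgroup.relIndex_sup_right, frattini hx hC h, Subgroup.relIndex_top_right]
  rw [h1, ← (S.subgroupOf (nor x)).card_mul_index, mul_comm]
  refine mul_dvd_mul_right ?_ _
  have h2 : (zpowers x).subgroupOf (nor x) ≤ S.subgroupOf (nor x) :=
    fun n hn => (zpowers_le.2 (mem_of_dvd hx hC h)) hn
  have h3 := card_dvd_of_le h2
  rwa [Nat.card_congr (subgroupOfEquivOfLe (zpowers_le_nor (x := x))).toEquiv,
    card_zpowers' hx] at h3

end Cfsg.Agent.CentPrime
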